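import Groth.Agent.NonAbLib.FinGal.Alg
import Groth.Agent.H84WeilRes.Affine
import Groth.Prelude.Def_SGA7a
import Mathlib.CategoryTheory.Monoidal.Cartesian.Over

/-!
# Split schemes over a field and their points
-/

set_option autoImplicit false
set_option linter.style.haveILetI false

universe u

open CategoryTheory CategoryTheory.Limits MonoidalCategory CartesianMonoidalCategory AlgebraicGeometry
open TensorProduct Groth.Agent.H84WeilRes

noncomputable section

namespace Groth.Agent.NonAbLib.FinGal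

variable {k : Type u} [Field k] {B B' C : Type u} [CommRing B] [Algebra k B] [CommRing B'] [Algebra k B']
  [CommRing C] [Algebra k C]

/-- Morphisms of affine `k`-schemes are algebra maps. -/
def specEquiv : (B →ₐ[k] C) ≃ (spec k C ⟶ spec k B) :=
  Equiv.ofBijective specMap
    ⟨fun φ ψ h => AlgHom.ext fun b => congrArg (fun t => t.hom b)
        (Spec.map_injective (congrArg CommaMorphism.left h)),
      fun g => by obtain ⟨φ, hφ⟩ := exists_algHom g; exact ⟨φ, Over.OverMorphism.ext hφ.symm⟩⟩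

theorem specEquiv_left (φ : B →ₐ[k] C) : (specEquiv φ).left = Spec.map (CommRingCat.ofHom φ.toRingHom) := rfl

theorem specEquiv_comp {D : Type u} [CommRing D] [Algebra k D] (ψ : B →ₐ[k] C) (χ : D →ₐ[k] B) :
    specEquiv (ψ.comp χ) = specEquiv ψ ≫ specEquiv χ :=
  Over.OverMorphism.ext (by rw [Over.comp_left, specEquiv_left, specEquiv_left, specEquiv_left, ← Spec.map_comp]; rfl)

/-- The product of affine schemes is the spectrum of the tensor product. -/
def specProd : spec k B ⊗ spec k B' ≅ spec k (B ⊗[k] B') :=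
  Over.isoMk (pullbackSpecIso k B B') (by
    show (pullbackSpecIso k B B').hom ≫ Spec.map (CommRingCat.ofHom (algebraMap k (B ⊗[k] B'))) =
      pullback.fst _ _ ≫ Spec.map (CommRingCat.ofHom (algebraMap k B))
    rw [← pullbackSpecIso_hom_fst, Category.assoc, ← Spec.map_comp]
    rfl)

variable (K : Type u) [Field K] [Algebra k K]

/-- The points of a `k`-scheme with values in `K`. -/
abbrev Pts (X : Over (Spec (CommRingCat.of k))) : Type u := SGA7.Pts (K := k) K X

/-- Split by `K`. -/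
def Split (X : Over (Spec (CommRingCat.of k))) : Prop :=
  ∃ (B : Type u) (_ : CommRing B) (_ : Algebra k B), Nonempty (X ≅ spec k B) ∧ IsSplit k K B

variable {K}

/-- Points from algebra maps. -/
def ptsEquiv {X : Over (Spec (CommRingCat.of k))} (e : X ≅ spec k B) : (B →ₐ[k] K) ≃ Pts K X :=
  specEquiv.trans
    { toFun := fun t => t ≫ e.inv
      invFun := fun t => t ≫ e.hom
      left_inv := fun t => (Category.assoc _ _ _).trans (by rw [e.inv_hom_id, Category.comp_id])
      right_inv := fun t => (Category.assoc _ _ _).trans (by rw [e.hom_inv_id, Category.comp_id]) }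

theorem ptsEquiv_apply {X : Over (Spec (CommRingCat.of k))} (e : X ≅ spec k B) (t : B →ₐ[k] K) :
    ptsEquiv e t = specEquiv t ≫ e.inv := rfl

theorem specAut_comp_ptsEquiv {X : Over (Spec (CommRingCat.of k))} (e : X ≅ spec k B) (σ : K ≃ₐ[k] K)
    (t : B →ₐ[k] K) : SGA7.specAut σ ≫ ptsEquiv e t = ptsEquiv e (σ.toAlgHom.comp t) := by
  rw [ptsEquiv_apply, ptsEquiv_apply, specEquiv_comp, Category.assoc]
  congr 1

variable {X Y : Over (Spec (CommRingCat.of k))}

theorem Split.finite (h : Split K X) : Finite (Pts K X) := by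
  obtain ⟨B, _, _, ⟨e⟩, hs⟩ := h
  have := hs.finite_points
  exact Finite.of_equiv _ (ptsEquiv e)

theorem Split.prod (h : Split K X) (h' : Split K Y) : Split K (X ⊗ Y) := by
  obtain ⟨B, _, _, ⟨e⟩, hs⟩ := h
  obtain ⟨B', _, _, ⟨e'⟩, hs'⟩ := h'
  exact ⟨_, _, _, ⟨(e ⊗ᵢ e') ≪≫ specProd⟩, hs.tensor hs'⟩

/-- Morphisms from split schemes to affine schemes are determined by points. -/
theorem Split.hom_ext (h : Split K X) [IsAffine Y.left] {f g : X ⟶ Y}
    (hfg : ∀ x : Pts K X, x ≫ f = x ≫ g) : f = g := by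
  obtain ⟨B, _, _, ⟨e⟩, hs⟩ := h
  let ψ := Spec.preimage (Y.left.isoSpec.inv ≫ Y.hom)
  letI : Algebra k Γ(Y.left, ⊤) := ψ.hom.toAlgebra
  let eY : Y ≅ spec k Γ(Y.left, ⊤) := Over.isoMk Y.left.isoSpec (by
    change Y.left.isoSpec.hom ≫ Spec.map ψ = Y.hom
    rw [Spec.map_preimage, Iso.hom_inv_id_assoc])
  obtain ⟨a, ha⟩ := specEquiv.surjective (e.inv ≫ f ≫ eY.hom)
  obtain ⟨a', ha'⟩ := specEquiv.surjective (e.inv ≫ g ≫ eY.hom)
  have : a = a' := hs.algHom_ext fun x => specEquiv.injective (by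
    rw [specEquiv_comp, specEquiv_comp, ha, ha', ← Category.assoc, ← Category.assoc (specEquiv x) e.inv,
      ← Category.assoc (specEquiv x ≫ e.inv) f, ← Category.assoc (specEquiv x ≫ e.inv) g]
    exact congrArg (· ≫ eY.hom) (hfg (specEquiv x ≫ e.inv)))
  rw [this, ha'] at ha
  exact ((cancel_mono eY.hom).1 ((cancel_epi e.inv).1 ha)).symm

variable (φ : K ≃ₐ[k] K) (hfix : ∀ c, φ c = c → c ∈ Set.range (algebraMap k K))

include hfix in
/-- Equivariant maps on points come from morphisms. -/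
theorem Split.exists_hom (h : Split K X) (h' : Split K Y) (μ : Pts K X → Pts K Y)
    (hμ : ∀ x, μ (SGA7.specAut φ ≫ x) = SGA7.specAut φ ≫ μ x) : ∃ f : X ⟶ Y, ∀ x : Pts K X, x ≫ f = μ x := by
  obtain ⟨B, _, _, ⟨e⟩, hs⟩ := h
  obtain ⟨B', _, _, ⟨e'⟩, hs'⟩ := h'
  obtain ⟨ψ, hψ⟩ := hs.exists_algHom (B' := B') φ hfix (fun t => (ptsEquiv e').symm (μ (ptsEquiv e t))) fun t => by
    show (ptsEquiv e').symm (μ (ptsEquiv e (φ.toAlgHom.comp t))) = _
    rw [Equiv.symm_apply_eq, ← specAut_comp_ptsEquiv, hμ, ← specAut_comp_ptsEquiv, Equiv.apply_symm_apply]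
  refine ⟨e.hom ≫ specEquiv ψ ≫ e'.inv, fun x => ?_⟩
  obtain ⟨t, rfl⟩ := (ptsEquiv e).surjective x
  have h1 : ptsEquiv e' (t.comp ψ) = μ (ptsEquiv e t) := by rw [hψ, Equiv.apply_symm_apply]
  rw [← h1, ptsEquiv_apply, ptsEquiv_apply, specEquiv_comp, Category.assoc, e.inv_hom_id_assoc, Category.assoc]

include hfix in
/-- Every finite set with a permutation of period `N` is a set of points. -/
theorem exists_split {M : Type u} [Finite M] (p : Equiv.Perm M) {N : ℕ} (hN : 0 < N) (hp : p ^ N = 1)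
    (hφ : φ ^ N = 1) (hinj : Function.Injective fun i : Fin N => φ ^ i.1) :
    ∃ (X : Over (Spec (CommRingCat.of k))) (E : M ≃ Pts K X),
      Split K X ∧ ∀ m, E (p m) = SGA7.specAut φ ≫ E m := by
  obtain ⟨C, _, _, E, hC, hE⟩ := exists_isSplit φ hfix p hN hp hφ hinj
  refine ⟨spec k C, E.trans (ptsEquiv (Iso.refl _)), ⟨C, _, _, ⟨Iso.refl _⟩, hC⟩, fun m => ?_⟩
  simp only [Equiv.trans_apply]
  rw [specAut_comp_ptsEquiv, hE]

/-- Finite schemes with as many points as their dimension. -/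
theorem split_of_card {D : Type u} [CommRing D] [Algebra k D] [Module.Finite k D] (e : X ≅ spec k D)
    (h : Module.finrank k D ≤ Nat.card (Pts K X)) : Split K X := by
  obtain ⟨hf, hle⟩ := card_points_le (k := k) (K := K) (B := D)
  rw [← Nat.card_congr (ptsEquiv e)] at h
  exact ⟨D, _, _, ⟨e⟩, inferInstance, hf, le_antisymm hle h⟩

end Groth.Agent.NonAbLib.FinGal
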