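import Mathlib.FieldTheory.Fixed
import Mathlib.FieldTheory.Galois.Basic
import Mathlib.RingTheory.TensorProduct.Pi
import Mathlib.RingTheory.Flat.Basic
import Mathlib.LinearAlgebra.TensorProduct.Basis
import Mathlib.LinearAlgebra.Dimension.Constructions
import Mathlib.LinearAlgebra.Dual.Lemmas

/-!
# Split algebras and sets with an automorphism

`K/k` with a generator `φ` of the automorphisms: algebras split by `K` correspond to finite sets
with a permutation.
-/

set_option autoImplicit false
set_option linter.style.haveILetI false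

universe u v

open TensorProduct

noncomputable section

namespace Groth.Agent.NonAbLib.FinGal

variable {k : Type u} [Field k] (K : Type u) [Field K] [Algebra k K]

variable (k) in
/-- As many `K`-points as the dimension. -/
structure IsSplit (B : Type u) [CommRing B] [Algebra k B] : Prop where
  finite : Module.Finite k B
  finite_points : Finite (B →ₐ[k] K)
  card : Nat.card (B →ₐ[k] K) = Module.finrank k B

variable {K} {B B' : Type u} [CommRing B] [Algebra k B] [CommRing B'] [Algebra k B']

theorem card_points_le [Module.Finite k B] :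
    Finite (B →ₐ[k] K) ∧ Nat.card (B →ₐ[k] K) ≤ Module.finrank k B :=
  ⟨inferInstance, card_algHom_le_finrank k B K⟩

theorem IsSplit.of_algEquiv (h : IsSplit k K B) (e : B ≃ₐ[k] B') : IsSplit k K B' := by
  have := h.finite
  have := h.finite_points
  let ep : (B →ₐ[k] K) ≃ (B' →ₐ[k] K) :=
    { toFun := fun x => x.comp e.symm.toAlgHom
      invFun := fun x => x.comp e.toAlgHom
      left_inv := fun x => AlgHom.ext fun b => by simp
      right_inv := fun x => AlgHom.ext fun b => by simp }
  exact ⟨Module.Finite.equiv e.toLinearEquiv, Finite.of_equiv _ ep, by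
    rw [← Nat.card_congr ep, h.card, e.toLinearEquiv.finrank_eq]⟩

/-- Points of a tensor product. -/
def tensorPoints : (B ⊗[k] B' →ₐ[k] K) ≃ (B →ₐ[k] K) × (B' →ₐ[k] K) where
  toFun x := (x.comp Algebra.TensorProduct.includeLeft, x.comp Algebra.TensorProduct.includeRight)
  invFun xy := Algebra.TensorProduct.lift xy.1 xy.2 fun _ _ => Commute.all _ _
  left_inv x := by ext <;> simp
  right_inv xy := by ext <;> simp

theorem IsSplit.tensor (h : IsSplit k K B) (h' : IsSplit k K B') : IsSplit k K (B ⊗[k] B') := by
  have := h.finite; have := h'.finite; have := h.finite_points; have := h'.finite_points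
  exact ⟨inferInstance, Finite.of_equiv _ tensorPoints.symm, by
    rw [Nat.card_congr tensorPoints, Nat.card_prod, h.card, h'.card, Module.finrank_tensorProduct]⟩

variable (k K B) in
/-- Evaluation at the points, extended to `K`. -/
def evK : K ⊗[k] B →ₗ[K] ((B →ₐ[k] K) → K) :=
  TensorProduct.AlgebraTensorModule.lift
    ({ toFun := fun c => { toFun := fun b => fun x => c * x b
                           map_add' := fun a b => by ext x; simp [mul_add]
                           map_smul' := fun a b => by ext x; simp }
       map_add' := fun a b => by ext y x; simp [add_mul]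
       map_smul' := fun a b => by ext y x; simp [mul_assoc] } : K →ₗ[K] B →ₗ[k] ((B →ₐ[k] K) → K))

theorem evK_tmul (c : K) (b : B) (x : B →ₐ[k] K) : evK k K B (c ⊗ₜ b) x = c * x b := rfl

theorem IsSplit.bijective_evK (h : IsSplit k K B) : Function.Bijective (evK k K B) := by
  have := h.finite; have := h.finite_points
  have := Fintype.ofFinite (B →ₐ[k] K)
  have hsurj : Function.Surjective (evK k K B) := by
    rw [← LinearMap.range_eq_top]
    by_contra hne
    obtain ⟨a, ha0, ha⟩ := Submodule.exists_le_ker_of_lt_top _ (lt_top_iff_ne_top.2 hne)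
    classical
    refine ha0 ((LinearMap.pi_ext' fun x => LinearMap.ext_ring ?_ : a = 0))
    have hsum : ∀ b, ∑ y : B →ₐ[k] K, a (Pi.single y 1) * y b = 0 := fun b => by
      have := ha (LinearMap.mem_range_self (evK k K B) ((1 : K) ⊗ₜ b))
      rw [LinearMap.mem_ker, pi_eq_sum_univ (evK k K B ((1 : K) ⊗ₜ b)), map_sum] at this
      rw [← this]
      refine Finset.sum_congr rfl fun y _ => ?_
      rw [map_smul, evK_tmul, one_mul, smul_eq_mul, mul_comm]
      congr 2
      funext z
      simp [Pi.single_apply, eq_comm]
    simpa using Fintype.linearIndependent_iff.1 (linearIndependent_toLinearMap k B K) _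
      (LinearMap.ext fun b => by simpa using hsum b) x
  exact ⟨(LinearMap.injective_iff_surjective_of_finrank_eq_finrank (by
    rw [Module.finrank_baseChange, Module.finrank_fintype_fun_eq_card, ← Nat.card_eq_fintype_card, h.card])).2 hsurj,
    hsurj⟩

theorem IsSplit.ext (h : IsSplit k K B) {b b' : B} (hb : ∀ x : B →ₐ[k] K, x b = x b') : b = b' := by
  have := h.bijective_evK.1 (a₁ := (1 : K) ⊗ₜ b) (a₂ := (1 : K) ⊗ₜ b') (funext fun x => by simp [evK_tmul, hb])
  exact Algebra.TensorProduct.includeRight_injective (algebraMap k K).injective this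

theorem IsSplit.algHom_ext (h : IsSplit k K B) {C : Type u} [CommRing C] [Algebra k C] {ψ ψ' : C →ₐ[k] B}
    (hψ : ∀ x : B →ₐ[k] K, x.comp ψ = x.comp ψ') : ψ = ψ' :=
  AlgHom.ext fun c => h.ext fun x => DFunLike.congr_fun (hψ x) c

variable (φ : K ≃ₐ[k] K) (hfix : ∀ c, φ c = c → c ∈ Set.range (algebraMap k K))

include hfix in
/-- Equivariant functions on the points come from the algebra. -/
theorem IsSplit.exists_of_equivariant (h : IsSplit k K B) (f : (B →ₐ[k] K) → K)
    (hf : ∀ x, f (φ.toAlgHom.comp x) = φ (f x)) : ∃ b, ∀ x : B →ₐ[k] K, x b = f x := by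
  classical
  have := h.finite
  let b := Module.finBasis k B
  obtain ⟨z, hz⟩ := h.bijective_evK.2 f
  let β := b.baseChange K
  have hfx : ∀ x : B →ₐ[k] K, f x = ∑ i, β.repr z i * x (b i) := fun x => by
    rw [← hz, ← β.sum_repr z, map_sum, Finset.sum_apply, β.sum_repr z]
    refine Finset.sum_congr rfl fun i _ => ?_
    rw [map_smul, Pi.smul_apply, smul_eq_mul, Module.Basis.baseChange_apply, evK_tmul, one_mul]
  let z' : K ⊗[k] B := ∑ i, φ (β.repr z i) • β i
  have hz' : evK k K B z' = f := funext fun x => by
    obtain ⟨y, hy⟩ : ∃ y : B →ₐ[k] K, φ.toAlgHom.comp y = x :=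
      ⟨φ.symm.toAlgHom.comp x, AlgHom.ext fun c => φ.apply_symm_apply _⟩
    have h1 := hf y
    rw [hy, hfx y, map_sum] at h1
    rw [h1, map_sum, Finset.sum_apply]
    refine Finset.sum_congr rfl fun i _ => ?_
    rw [map_smul, Pi.smul_apply, smul_eq_mul, Module.Basis.baseChange_apply, evK_tmul, one_mul, map_mul, ← hy]
    rfl
  have heq : z' = z := h.bijective_evK.1 (hz'.trans hz.symm)
  have hcoef : ∀ i, φ (β.repr z i) = β.repr z i := fun i => by
    conv_rhs => rw [← heq]
    rw [β.repr_sum_self]
  choose c hc using fun i => hfix _ (hcoef i)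
  refine ⟨∑ i, c i • b i, fun x => ?_⟩
  rw [hfx, map_sum]
  exact Finset.sum_congr rfl fun i _ => by rw [map_smul, Algebra.smul_def, hc]

include hfix in
/-- An equivariant map of point sets comes from an algebra map. -/
theorem IsSplit.exists_algHom (h : IsSplit k K B) (μ : (B →ₐ[k] K) → (B' →ₐ[k] K))
    (hμ : ∀ x, μ (φ.toAlgHom.comp x) = φ.toAlgHom.comp (μ x)) :
    ∃ ψ : B' →ₐ[k] B, ∀ x, x.comp ψ = μ x := by
  choose F hF using fun c : B' => h.exists_of_equivariant φ hfix (fun x => μ x c) fun x => by rw [hμ]; rfl
  exact ⟨{ toFun := F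
           map_one' := h.ext fun x => by rw [hF, map_one, map_one]
           map_mul' := fun a c => h.ext fun x => by rw [hF, map_mul, map_mul, hF, hF]
           map_zero' := h.ext fun x => by rw [hF, map_zero, map_zero]
           map_add' := fun a c => h.ext fun x => by rw [hF, map_add, map_add, hF, hF]
           commutes' := fun r => h.ext fun x => by rw [hF, AlgHom.commutes, AlgHom.commutes] },
    fun x => AlgHom.ext fun c => hF c x⟩

section Exists

variable {M : Type u} (e : Equiv.Perm M)

/-- The equivariant functions. -/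
def equivFun : Subalgebra k (M → K) where
  carrier := {f | ∀ m, f (e m) = φ (f m)}
  mul_mem' := fun hf hg m => by simp [hf m, hg m]
  add_mem' := fun hf hg m => by simp [hf m, hg m]
  algebraMap_mem' := fun r m => by simp

/-- Evaluation at a point. -/
def evPt (m : M) : equivFun φ e →ₐ[k] K := (Pi.evalAlgHom k (fun _ : M => K) m).comp (equivFun φ e).val

theorem evPt_apply (m : M) : evPt φ e (e m) = φ.toAlgHom.comp (evPt φ e m) :=
  AlgHom.ext fun f => f.2 m

include hfix in
/-- Every finite set with a permutation of period `N` is the set of points of a split algebra. -/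
theorem exists_isSplit [Finite M] {N : ℕ} (hN : 0 < N) (he : e ^ N = 1) (hφ : φ ^ N = 1)
    (hinj : Function.Injective fun i : Fin N => φ ^ i.1) :
    ∃ (C : Type u) (_ : CommRing C) (_ : Algebra k C) (E : M ≃ (C →ₐ[k] K)),
      IsSplit k K C ∧ ∀ m, E (e m) = φ.toAlgHom.comp (E m) := by
  classical
  have := Fintype.ofFinite M
  let A : Subalgebra k (M → K) := equivFun φ e
  -- averaged functions
  let avg : M → K → M → K := fun m₀ c m =>
    ∑ i ∈ Finset.range N, if (e ^ i) m₀ = m then (φ ^ i) c else 0
  have havg : ∀ m₀ c, avg m₀ c ∈ A := fun m₀ c m => by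
    show avg m₀ c (e m) = φ (avg m₀ c m)
    simp only [avg, map_sum]
    obtain ⟨N, rfl⟩ := Nat.exists_eq_succ_of_ne_zero hN.ne'
    rw [Finset.sum_range_succ']
    conv_rhs => rw [Finset.sum_range_succ]
    refine congrArg₂ (· + ·) (Finset.sum_congr rfl fun i _ => ?_) ?_
    · rw [apply_ite φ, map_zero, pow_succ' e, Equiv.Perm.mul_apply, pow_succ' φ]
      simp only [e.apply_eq_iff_eq, AlgEquiv.mul_apply]
    · rw [apply_ite φ, map_zero]
      have h1 : ∀ x, e ((e ^ N) x) = x := fun x => by
        rw [← Equiv.Perm.mul_apply, ← pow_succ', he, Equiv.Perm.one_apply]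
      have h2 : ∀ x, φ ((φ ^ N) x) = x := fun x => by
        rw [← AlgEquiv.mul_apply, ← pow_succ', hφ, AlgEquiv.one_apply]
      simp only [pow_zero, Equiv.Perm.one_apply, AlgEquiv.one_apply, h2]
      refine if_congr ⟨fun h => ?_, fun h => ?_⟩ rfl rfl
      · rw [← e.apply_eq_iff_eq, h1, h]
      · rw [← h1 m₀, h]
  -- they separate
  have hsurj : ∀ a : (M → K) →ₗ[K] K, (∀ f ∈ A, a f = 0) → a = 0 := fun a ha => by
    refine LinearMap.pi_ext' fun m₀ => LinearMap.ext_ring ?_
    have hsum : ∀ c, ∑ i : Fin N, a (Pi.single ((e ^ i.1) m₀) 1) * (φ ^ i.1) c = 0 := fun c => by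
      have := ha _ (havg m₀ c)
      rw [show avg m₀ c = ∑ i : Fin N, (φ ^ i.1) c • (Pi.single ((e ^ i.1) m₀) (1 : K) : M → K) from funext fun m => by
        rw [Finset.sum_apply, Fin.sum_univ_eq_sum_range (fun i => ((φ ^ i) c • (Pi.single ((e ^ i) m₀) (1 : K) : M → K)) m)]
        exact Finset.sum_congr rfl fun i _ => by simp [Pi.single_apply, eq_comm], map_sum] at this
      rw [← this]
      exact Finset.sum_congr rfl fun i _ => by rw [map_smul, smul_eq_mul, mul_comm]
    have hli : LinearIndependent K fun i : Fin N => (φ ^ i.1).toAlgHom.toLinearMap :=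
      (linearIndependent_toLinearMap k K K).comp (fun i : Fin N => (φ ^ i.1).toAlgHom) fun i j hij =>
        hinj (AlgEquiv.ext fun c => DFunLike.congr_fun hij c)
    have h0 := Fintype.linearIndependent_iff.1 hli (fun i => a (Pi.single ((e ^ i.1) m₀) 1))
      (LinearMap.ext fun c => by
        simp only [LinearMap.coe_sum, Finset.sum_apply, LinearMap.smul_apply, smul_eq_mul, LinearMap.zero_apply]
        exact hsum c) ⟨0, hN⟩
    simpa using h0
  have hspan : Submodule.span K (A : Set (M → K)) = ⊤ := by
    by_contra hne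
    obtain ⟨a, ha0, ha⟩ := Submodule.exists_le_ker_of_lt_top _ (lt_top_iff_ne_top.2 hne)
    exact ha0 (hsurj a fun f hf => ha (Submodule.subset_span hf))
  -- linear independence is preserved
  have hK : ∀ (s : Finset A), LinearIndepOn k (id : A → A) (s : Set A) →
      LinearIndepOn K (fun f : A => (f : M → K)) (s : Set A) := by
    intro s
    induction s using Finset.induction with
    | empty => intro; simp
    | insert f s hfs ih =>
      intro hli
      rw [Finset.coe_insert] at hli ⊢
      rw [linearIndepOn_insert (by simpa using hfs)] at hli ⊢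
      refine ⟨ih hli.1, fun hmem => hli.2 ?_⟩
      obtain ⟨c, hc⟩ := (Submodule.mem_span_image_finset_iff_exists_fun K).1 hmem
      have hφc : ∀ g : s, φ (c g) = c g := by
        have h0 : ∑ g : s, (φ (c g) - c g) • ((g : A) : M → K) = 0 := funext fun m => by
          obtain ⟨m', rfl⟩ := e.surjective m
          have h1 := congrFun hc (e m')
          have h2 := congrArg φ (congrFun hc m')
          simp only [Finset.sum_apply, Pi.smul_apply, smul_eq_mul, map_sum, map_mul] at h1 h2 ⊢
          rw [← f.2 m', ← h1] at h2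
          rw [Pi.zero_apply, ← sub_eq_zero.2 h2, ← Finset.sum_sub_distrib]
          exact Finset.sum_congr rfl fun g _ => by rw [(g : A).2 m', sub_mul]
        exact fun g => sub_eq_zero.1 (Fintype.linearIndependent_iff.1 (ih hli.1) _ h0 g)
      choose d hd using fun g : s => hfix _ (hφc g)
      refine (Submodule.mem_span_image_finset_iff_exists_fun k).2 ⟨d, Subtype.ext ?_⟩
      rw [id, ← hc, AddSubmonoidClass.coe_finset_sum]
      exact Finset.sum_congr rfl fun g _ => funext fun m => by
        simp only [id, Pi.smul_apply, smul_eq_mul, ← hd g]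
        rw [Subalgebra.coe_smul, Pi.smul_apply, Algebra.smul_def]
  have hle : Module.rank k A ≤ Fintype.card M := by
    refine rank_le fun s hs => ?_
    have := (hK s (by simpa [LinearIndepOn] using hs)).fintype_card_le_finrank
    simpa [Module.finrank_fintype_fun_eq_card] using this
  have hfin : Module.Finite k A :=
    Module.rank_lt_aleph0_iff.1 (hle.trans_lt (Cardinal.natCast_lt_aleph0))
  have hdim : Module.finrank k A ≤ Fintype.card M := Module.finrank_le_of_rank_le hle
  let E : M → (A →ₐ[k] K) := evPt φ e
  have hE : Function.Injective E := fun m m' h => by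
    by_contra hne
    have := hsurj ((LinearMap.proj m : (M → K) →ₗ[K] K) - LinearMap.proj m') fun f hf => by
      show f m - f m' = 0
      exact sub_eq_zero.2 (DFunLike.congr_fun h ⟨f, hf⟩)
    have h1 : (Pi.single m (1 : K) : M → K) m - (Pi.single m (1 : K) : M → K) m' = 0 :=
      LinearMap.congr_fun this (Pi.single m 1)
    rw [Pi.single_eq_same, Pi.single_eq_of_ne (Ne.symm hne), sub_zero] at h1
    exact one_ne_zero h1
  obtain ⟨hfp, hcard⟩ := card_points_le (k := k) (K := K) (B := A)
  have hbij : Function.Bijective E :=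
    (Fintype.bijective_iff_injective_and_card (α := M) (β := A →ₐ[k] K) E).2 ⟨hE, by
      refine le_antisymm (Fintype.card_le_of_injective E hE) ?_
      rw [← Nat.card_eq_fintype_card]
      exact hcard.trans hdim⟩
  refine ⟨A, inferInstance, inferInstance, Equiv.ofBijective E hbij, ⟨hfin, hfp, ?_⟩, evPt_apply φ e⟩
  refine le_antisymm hcard (hdim.trans ?_)
  rw [← Nat.card_eq_fintype_card]
  exact Nat.card_le_card_of_injective E hE

end Exists

end Groth.Agent.NonAbLib.FinGal
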