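import Mathlib.FieldTheory.Finite.Extension
import Mathlib.FieldTheory.IsAlgClosed.AlgebraicClosure
import Mathlib.RingTheory.Etale.Field

/-!
# Finite fields: fixed elements of Frobenius, splitting of étale algebras
-/

set_option autoImplicit false
set_option linter.style.haveILetI false

universe u v

open Polynomial

noncomputable section

namespace Groth.Agent.NonAbLib.FinGal

/-- The elements fixed by `a ↦ a ^ card F` lie in the image of `F`. -/
theorem mem_range_of_pow_eq {F : Type u} [Field F] [Finite F] {L : Type v} [Field L] (i : F →+* L) {a : L}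
    (ha : a ^ Nat.card F = a) : a ∈ Set.range i := by
  classical
  have := Fintype.ofFinite F
  let P : L[X] := X ^ Nat.card F - X
  have h1 : 1 < Nat.card F := Finite.one_lt_card
  have hP : P ≠ 0 := FiniteField.X_pow_card_sub_X_ne_zero L h1
  have hdeg : P.natDegree = Nat.card F := FiniteField.X_pow_card_sub_X_natDegree_eq L h1
  have hsub : Finset.univ.image i ⊆ P.roots.toFinset := fun x hx => by
    obtain ⟨y, -, rfl⟩ := Finset.mem_image.1 hx
    rw [Multiset.mem_toFinset, mem_roots hP]
    simp only [P, IsRoot, eval_sub, eval_pow, eval_X]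
    rw [← map_pow, Nat.card_eq_fintype_card, FiniteField.pow_card, sub_self]
  have hcard : P.roots.toFinset.card ≤ (Finset.univ.image i).card := by
    rw [Finset.card_image_of_injective _ i.injective, Finset.card_univ, ← Nat.card_eq_fintype_card, ← hdeg]
    exact (Multiset.toFinset_card_le _).trans (card_roots' P)
  have : a ∈ Finset.univ.image i := by
    rw [Finset.eq_of_subset_of_card_le hsub hcard, Multiset.mem_toFinset, mem_roots hP]
    simp only [P, IsRoot, eval_sub, eval_pow, eval_X, ha, sub_self]
  obtain ⟨y, -, hy⟩ := Finset.mem_image.1 this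
  exact ⟨y, hy⟩

variable {k : Type u} [Field k] [Finite k]

variable (k) in
/-- The subextension of degree `N` of the algebraic closure. -/
theorem exists_extension {N : ℕ} (hN : 0 < N) :
    ∃ K : IntermediateField k (AlgebraicClosure k), Finite K ∧ Module.finrank k K = N := by
  obtain ⟨p, hp⟩ := CharP.exists k
  have : Fact p.Prime := ⟨CharP.char_is_prime k p⟩
  have : NeZero N := ⟨hN.ne'⟩
  let ι : FiniteField.Extension k p N →ₐ[k] AlgebraicClosure k := IsAlgClosed.lift
  let e := AlgEquiv.ofInjectiveField ι
  exact ⟨ι.fieldRange, Finite.of_equiv _ e.toEquiv,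
    e.toLinearEquiv.finrank_eq.symm.trans (FiniteField.finrank_extension k p N)⟩

variable {B : Type u} [CommRing B] [Algebra k B]

/-- Étale algebras over a finite field: a period of Frobenius and the number of points. -/
theorem exists_period_etale [Algebra.Etale k B] :
    ∃ n : ℕ, 0 < n ∧ (∀ b : B, b ^ (Nat.card k ^ n) = b) ∧
      ∀ (K : Type u) [Field K] [Algebra k K] [Finite K], n ∣ Module.finrank k K →
        Module.finrank k B ≤ Nat.card (B →ₐ[k] K) := by
  classical
  obtain ⟨I, _, A, _, _, e, hA⟩ := (Algebra.Etale.iff_exists_algEquiv_prod k B).1 (inferInstanceAs (Algebra.Etale k B))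
  have := Fintype.ofFinite I
  have hfinA : ∀ i, Module.Finite k (A i) := fun i => (hA i).1
  have hAfin : ∀ i, Finite (A i) := fun i => Module.finite_of_finite k
  refine ⟨∏ i, Module.finrank k (A i), Finset.prod_pos fun i _ => Module.finrank_pos, fun b => e.injective ?_,
    fun K _ _ _ hdvd => ?_⟩
  · rw [map_pow]
    funext i
    obtain ⟨c, hc⟩ := Finset.dvd_prod_of_mem (fun i => Module.finrank k (A i)) (Finset.mem_univ i)
    have := Fintype.ofFinite (A i)
    rw [Pi.pow_apply, hc, pow_mul, ← Module.natCard_eq_pow_finrank, Nat.card_eq_fintype_card, FiniteField.pow_card_pow]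
  · let F : (Σ i, A i →ₐ[k] K) → (B →ₐ[k] K) := fun t => (t.2.comp (Pi.evalAlgHom k A t.1)).comp e.toAlgHom
    have hF : Function.Injective F := by
      rintro ⟨i, s⟩ ⟨j, t⟩ h
      have h1 : ∀ x : Π i, A i, s (x i) = t (x j) := fun x => by
        simpa [F] using DFunLike.congr_fun h (e.symm x)
      obtain rfl : i = j := by
        by_contra hne
        have := h1 (Pi.single i 1)
        rw [Pi.single_eq_same, Pi.single_eq_of_ne (Ne.symm hne), map_one, map_zero] at this
        exact one_ne_zero this
      exact congrArg _ (AlgHom.ext fun c => by simpa using h1 (Pi.single i c))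
    have : Module.Finite k K := Module.Finite.of_finite
    have : Module.Finite k B := Module.Finite.equiv e.symm.toLinearEquiv
    have hdim : Module.finrank k B = Nat.card (Σ i, A i →ₐ[k] K) := by
      rw [Nat.card_sigma, e.toLinearEquiv.finrank_eq, Module.finrank_pi_fintype]
      exact Finset.sum_congr rfl fun i _ => (FiniteField.natCard_algHom_of_finrank_dvd
        ((Finset.dvd_prod_of_mem (fun i => Module.finrank k (A i)) (Finset.mem_univ i)).trans hdvd)).symm
    exact hdim ▸ Nat.card_le_card_of_injective F hF

end Groth.Agent.NonAbLib.FinGal
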