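import Groth.Agent.NonAbLib.FinGal.Pts
import Groth.Agent.NonAbLib.TorsorSch
import Mathlib.GroupTheory.GroupAction.Quotient
import Mathlib.RingTheory.FiniteType
import Mathlib.Algebra.BigOperators.Finprod
import Mathlib.Algebra.BigOperators.Field

/-!
# Torsors split by a cyclic extension and twisted conjugacy classes
-/

set_option autoImplicit false
set_option linter.style.haveILetI false

universe u

open CategoryTheory CategoryTheory.Limits MonoidalCategory CartesianMonoidalCategory MonObj GrpObj AlgebraicGeometry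

noncomputable section

namespace Groth.Agent.NonAbLib.FinGal

variable {k : Type u} [Field k] {K : Type u} [Field K] [Algebra k K] (φ : K ≃ₐ[k] K)
  {G : Over (Spec (CommRingCat.of k))} [GrpObj G]

/-- Frobenius on the points. -/
def fr (X : Over (Spec (CommRingCat.of k))) (x : Pts K X) : Pts K X := SGA7.specAut φ ≫ x

variable (G) in
/-- Frobenius on the points of the group. -/
def θ : Pts K G →* Pts K G where
  toFun h := SGA7.specAut φ ≫ h
  map_one' := MonObj.comp_one _
  map_mul' h h' := MonObj.comp_mul _ _ _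

variable {X Y : Over (Spec (CommRingCat.of k))}

/-- The action on points. -/
def sm (a : AlgGrp.Action G X) (h : Pts K G) (x : Pts K X) : Pts K X := lift h x ≫ a.act

theorem sm_one (a : AlgGrp.Action G X) (x : Pts K X) : sm a 1 x = x := SchTorsor.one_act_pt a x

theorem sm_mul (a : AlgGrp.Action G X) (h h' : Pts K G) (x : Pts K X) : sm a (h * h') x = sm a h (sm a h' x) :=
  SchTorsor.act_assoc a h h' x

theorem fr_sm (a : AlgGrp.Action G X) (h : Pts K G) (x : Pts K X) :
    fr φ X (sm a h x) = sm a (θ φ G h) (fr φ X x) :=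
  comp_lift_assoc _ _ _ _

variable {φ}

theorem sm_bijective {a : AlgGrp.Action G X} (ha : NonAbH1.IsPseudoTorsorSch a) (x : Pts K X) :
    Function.Bijective fun h : Pts K G => sm a h x :=
  ⟨fun _ _ e => SchTorsor.act_free ha e, fun y => SchTorsor.exists_div ha y x⟩

theorem twist_eq {a : AlgGrp.Action G X} (ha : NonAbH1.IsPseudoTorsorSch a) {x : Pts K X} {g g' h : Pts K G}
    (hx : fr φ X x = sm a g x) (hx' : fr φ X (sm a h x) = sm a g' (sm a h x)) : g' = θ φ G h * g * h⁻¹ := by
  rw [fr_sm, hx, ← sm_mul, ← sm_mul] at hx'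
  rw [(sm_bijective ha x).1 hx', mul_inv_cancel_right]

theorem split_unit : Split K (𝟙_ (Over (Spec (CommRingCat.of k)))) := by
  refine ⟨k, inferInstance, inferInstance, ⟨Over.isoMk (Iso.refl _) ?_⟩, inferInstance, inferInstance, ?_⟩
  · show 𝟙 _ ≫ Spec.map (CommRingCat.ofHom (algebraMap k k)) = 𝟙 _
    rw [Category.id_comp]
    exact Spec.map_id _
  · rw [Module.finrank_self]
    exact Nat.card_eq_one_iff_unique.2 ⟨⟨fun a b => Algebra.ext_id _ a b⟩, ⟨Algebra.ofId k K⟩⟩

theorem isAffine_of_split (h : Split K X) : IsAffine X.left := by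
  obtain ⟨B, _, _, ⟨e⟩, -⟩ := h
  haveI : IsIso e.hom.left := (Over.forget _).map_isIso e.hom
  haveI : IsAffine (H84WeilRes.spec k B).left := inferInstanceAs (IsAffine (Spec _))
  exact IsAffine.of_isIso e.hom.left

variable (hfix : ∀ c, φ c = c → c ∈ Set.range (algebraMap k K)) (hG : Split K G)

include hfix hG in
/-- Torsors with points having the same Frobenius are isomorphic. -/
theorem exists_equivariant (hX : Split K X) (hY : Split K Y) {a : AlgGrp.Action G X} {b : AlgGrp.Action G Y}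
    (ha : NonAbH1.IsPseudoTorsorSch a) (g : Pts K G) {x : Pts K X} {y : Pts K Y}
    (hx : fr φ X x = sm a g x) (hy : fr φ Y y = sm b g y) :
    ∃ f : X ⟶ Y, a.act ≫ f = (G ◁ f) ≫ b.act ∧ x ≫ f = y := by
  let E := Equiv.ofBijective _ (sm_bijective ha x)
  haveI := isAffine_of_split hY
  have hsymm : ∀ h, E.symm (sm a h x) = h := fun h => E.symm_apply_apply h
  obtain ⟨f, hf⟩ := Split.exists_hom φ hfix hX hY (fun z => sm b (E.symm z) y) fun z => by
    obtain ⟨h, rfl⟩ := (sm_bijective ha x).2 z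
    show sm b (E.symm (fr φ X (sm a h x))) y = fr φ Y (sm b (E.symm (sm a h x)) y)
    rw [hsymm, fr_sm, fr_sm, hx, hy, ← sm_mul, ← sm_mul, hsymm]
  have hfx : ∀ h, sm a h x ≫ f = sm b h y := fun h => by rw [hf, hsymm]
  refine ⟨f, (hG.prod hX).hom_ext fun z => ?_, by
    rw [← sm_one a x, hfx, sm_one]⟩
  obtain ⟨h', hh'⟩ := (sm_bijective ha x).2 (z ≫ snd G X)
  have hz : z = lift (z ≫ fst G X) (sm a h' x) := by
    apply CartesianMonoidalCategory.hom_ext <;> simp [show sm a h' x = z ≫ snd G X from hh']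
  rw [hz, lift_whiskerLeft_assoc, hfx, ← Category.assoc]
  show sm a (z ≫ fst G X) (sm a h' x) ≫ f = sm b (z ≫ fst G X) (sm b h' y)
  rw [← sm_mul, hfx, sm_mul]

variable [Finite k] [Module.Finite k K]

include hfix hG in
/-- The twisted torsor. -/
theorem exists_torsor {N : ℕ} (hN : 0 < N) (hφ : φ ^ N = 1) (hinj : Function.Injective fun i : Fin N => φ ^ i.1)
    (g : Pts K G) (p : Equiv.Perm (Pts K G)) (hp : ∀ h, p h = θ φ G h * g) (hpN : p ^ N = 1) :
    ∃ (P : NonAbH1.TorsorSch G Scheme.fppfPrecoverage) (x : Pts K P.X),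
      Split K P.X ∧ fr φ P.X x = sm P.act g x := by
  haveI := hG.finite
  obtain ⟨X, E, hX, hE⟩ := exists_split φ hfix p hN hpN hφ hinj
  haveI := isAffine_of_split hX
  have hfr : ∀ w : Pts K X, E.symm (fr φ X w) = θ φ G (E.symm w) * g := fun w => by
    rw [Equiv.symm_apply_eq, ← hp, hE, Equiv.apply_symm_apply]
    rfl
  obtain ⟨α, hα⟩ := Split.exists_hom φ hfix (hG.prod hX) hX
      (fun z => E ((z ≫ fst G X) * E.symm (z ≫ snd G X))) fun z => by
    apply E.symm.injective
    show _ = E.symm (fr φ X _)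
    rw [hfr, Equiv.symm_apply_apply, Equiv.symm_apply_apply]
    simp only [Category.assoc]
    show fr φ G (z ≫ fst G X) * E.symm (fr φ X (z ≫ snd G X)) = _
    rw [hfr, map_mul, _root_.mul_assoc]
    rfl
  have hα' : ∀ (h : Pts K G) (w : Pts K X), lift h w ≫ α = E (h * E.symm w) := fun h w => by
    rw [hα, lift_fst, lift_snd]
  let a : AlgGrp.Action G X :=
    { act := α
      one_act := (split_unit.prod hX).hom_ext fun z => by
        rw [show z = lift (z ≫ fst _ X) (z ≫ snd _ X) from (comp_lift z _ _).symm.trans (by rw [lift_fst_snd, Category.comp_id]) |>.symm,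
          lift_whiskerRight_assoc, lift_leftUnitor_hom,
          show (z ≫ fst _ X) ≫ η[G] = (1 : Pts K G) from by
            rw [Hom.one_def]; congr 1; exact toUnit_unique _ _,
          hα', _root_.one_mul, Equiv.apply_symm_apply]
      mul_act := ((hG.prod hG).prod hX).hom_ext fun z => by
        rw [show z = lift (lift (z ≫ fst _ X ≫ fst G G) (z ≫ fst _ X ≫ snd G G)) (z ≫ snd _ X) from by
            apply CartesianMonoidalCategory.hom_ext
            · apply CartesianMonoidalCategory.hom_ext <;> simp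
            · simp,
          lift_whiskerRight_assoc, lift_lift_associator_hom_assoc, lift_whiskerLeft_assoc, ← Hom.mul_def, hα', hα',
          hα', Equiv.symm_apply_apply, _root_.mul_assoc] }
  have hsm : ∀ (h : Pts K G) (w : Pts K X), sm a h w = E (h * E.symm w) := hα'
  let d : G ⊗ X ⟶ X ⊗ X := lift α (snd G X)
  obtain ⟨d', hd'⟩ := Split.exists_hom φ hfix (hX.prod hX) (hG.prod hX)
      (fun z => lift (E.symm (z ≫ fst X X) * (E.symm (z ≫ snd X X))⁻¹) (z ≫ snd X X)) fun z => by
    apply CartesianMonoidalCategory.hom_ext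
    · simp only [lift_fst, comp_lift, Category.assoc]
      show E.symm (fr φ X (z ≫ fst X X)) * (E.symm (fr φ X (z ≫ snd X X)))⁻¹ = θ φ G (_ * _⁻¹)
      rw [hfr, hfr, _root_.mul_inv_rev, map_mul, map_inv, _root_.mul_assoc, mul_inv_cancel_left]
    · simp
  haveI := isAffine_of_split (hG.prod hX)
  haveI := isAffine_of_split (hX.prod hX)
  have hiso : IsIso d := by
    refine ⟨d', (hG.prod hX).hom_ext fun z => ?_, (hX.prod hX).hom_ext fun z => ?_⟩
    · rw [← Category.assoc, hd', Category.comp_id]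
      apply CartesianMonoidalCategory.hom_ext
      · simp only [d, lift_fst, Category.assoc, lift_snd]
        rw [hα, Equiv.symm_apply_apply, mul_inv_cancel_right]
      · simp [d]
    · rw [← Category.assoc, hd', Category.comp_id]
      apply CartesianMonoidalCategory.hom_ext
      · simp only [d, Category.assoc, lift_fst, hα', inv_mul_cancel_right, Equiv.apply_symm_apply]
      · simp [d]
  let x : Pts K X := E 1
  have : Surjective (SGA7.pt (K := k) K).hom := ⟨fun z =>
    ⟨(default : PrimeSpectrum K), Subsingleton.elim (α := PrimeSpectrum k) _ _⟩⟩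
  have : Flat (SGA7.pt (K := k) K).hom := (HasRingHomProperty.Spec_iff (P := @Flat)).2
    (RingHom.flat_algebraMap_iff.2 inferInstance)
  have : LocallyOfFinitePresentation (SGA7.pt (K := k) K).hom :=
    (HasRingHomProperty.Spec_iff (P := @LocallyOfFinitePresentation)).2
      (RingHom.finitePresentation_algebraMap.2 (Algebra.FinitePresentation.of_finiteType.1 inferInstance))
  refine ⟨⟨X, a, hiso, _, (SGA7.pt (K := k) K).hom.singleton_mem_fppfPrecoverage, ?_⟩, x, hX, ?_⟩
  · rintro S' f ⟨⟩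
    exact ⟨x.left, Over.w x⟩
  · show fr φ X (E 1) = sm a g (E 1)
    rw [hsm, Equiv.symm_apply_apply, _root_.mul_one]
    refine (hE 1).symm.trans ?_
    rw [hp, map_one, _root_.one_mul]

variable (φ) in
/-- The points of the group with twisted conjugation. -/
def Tw (G : Over (Spec (CommRingCat.of k))) (_ : K ≃ₐ[k] K) : Type u := Pts K G

variable (φ) in
/-- The identification. -/
def toTw : Pts K G ≃ Tw G φ := Equiv.refl _

instance : MulAction (Pts K G) (Tw G φ) where
  smul h g := toTw φ (θ φ G h * (toTw φ).symm g * h⁻¹)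
  one_smul g := by
    show toTw φ (θ φ G 1 * (toTw φ).symm g * 1⁻¹) = g
    simp
  mul_smul h h' g := by
    show toTw φ (θ φ G (h * h') * (toTw φ).symm g * (h * h')⁻¹) =
      toTw φ (θ φ G h * (toTw φ).symm (toTw φ (θ φ G h' * (toTw φ).symm g * h'⁻¹)) * h⁻¹)
    rw [Equiv.symm_apply_apply, map_mul (θ φ G), _root_.mul_inv_rev]
    simp only [_root_.mul_assoc]

theorem tw_smul (h g : Pts K G) : h • toTw φ g = toTw φ (θ φ G h * g * h⁻¹) := rfl

include hfix hG in
/-- The mass formula. -/
theorem mass {N : ℕ} (hN : 0 < N) (hφ : φ ^ N = 1) (hinj : Function.Injective fun i : Fin N => φ ^ i.1)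
    (p : Pts K G → Equiv.Perm (Pts K G)) (hp : ∀ g h, p g h = θ φ G h * g) (hpN : ∀ g, p g ^ N = 1)
    (hP : ∀ P : NonAbH1.TorsorSch G Scheme.fppfPrecoverage, Split K P.X ∧ Nonempty (Pts K P.X)) :
    Finite (NonAbH1.H1Sch G Scheme.fppfPrecoverage) ∧
      ∑ᶠ ξ : NonAbH1.H1Sch G Scheme.fppfPrecoverage,
        ((Nat.card (NonAbH1.EquivIso (Quot.out ξ).act (Quot.out ξ).act) : ℚ))⁻¹ = 1 := by
  classical
  haveI := hG.finite
  haveI : Finite (Tw G φ) := inferInstanceAs (Finite (Pts K G))
  let T := NonAbH1.TorsorSch G Scheme.fppfPrecoverage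
  let x : ∀ P : T, Pts K P.X := fun P => Classical.choice (hP P).2
  choose g hg using fun P : T => SchTorsor.exists_div P.isTorsor.1 (fr φ P.X (x P)) (x P)
  let cls : T → MulAction.orbitRel.Quotient (Pts K G) (Tw G φ) := fun P => Quotient.mk'' (toTw φ (g P))
  have hwd : ∀ P Q : T, Nonempty (NonAbH1.EquivIso P.act Q.act) → cls P = cls Q := by
    rintro P Q ⟨e⟩
    obtain ⟨h, hh⟩ := (sm_bijective Q.isTorsor.1 (x Q)).2 (x P ≫ e.iso.hom)
    have h1 : fr φ Q.X (x P ≫ e.iso.hom) = sm Q.act (g P) (x P ≫ e.iso.hom) := by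
      show SGA7.specAut φ ≫ x P ≫ e.iso.hom = _
      rw [← Category.assoc, show SGA7.specAut φ ≫ x P = sm P.act (g P) (x P) from (hg P).symm, sm, Category.assoc,
        e.comm, lift_whiskerLeft_assoc]
      rfl
    rw [← show sm Q.act h (x Q) = x P ≫ e.iso.hom from hh] at h1
    exact Quotient.sound' ⟨h, (tw_smul _ _).trans (congrArg (toTw φ) (twist_eq Q.isTorsor.1 (hg Q).symm h1).symm)⟩
  let Ψ : NonAbH1.H1Sch G Scheme.fppfPrecoverage → MulAction.orbitRel.Quotient (Pts K G) (Tw G φ) :=
    Quot.lift cls hwd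
  have hinjΨ : Function.Injective Ψ := by
    rintro ⟨P⟩ ⟨Q⟩ h
    obtain ⟨c, hc⟩ : ∃ c : Pts K G, c • (toTw φ (g Q)) = toTw φ (g P) :=
      MulAction.orbitRel_apply.1 (Quotient.exact' (h : cls P = cls Q))
    rw [tw_smul] at hc
    replace hc := (toTw φ).injective hc
    have hy : fr φ Q.X (sm Q.act c (x Q)) = sm Q.act (g P) (sm Q.act c (x Q)) := by
      rw [fr_sm, show fr φ Q.X (x Q) = sm Q.act (g Q) (x Q) from (hg Q).symm, ← sm_mul, ← sm_mul, ← hc,
        inv_mul_cancel_right]
    obtain ⟨f, hf, -⟩ := exists_equivariant hfix hG (hP P).1 (hP Q).1 P.isTorsor.1 (g P) (hg P).symm hy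
    have : IsIso f := SchTorsor.isIso_of_equivariant (torsor_mono fppf_le_fpqc P.isTorsor) Q.isTorsor.1 f hf
    exact Quot.sound ⟨⟨asIso f, hf⟩⟩
  have hsurj : Function.Surjective Ψ := by
    rintro ⟨γ'⟩
    obtain ⟨γ, rfl⟩ := (toTw φ).surjective γ'
    obtain ⟨P, y, -, hy⟩ := exists_torsor hfix hG hN hφ hinj γ (p γ) (hp γ) (hpN γ)
    obtain ⟨h, hh⟩ := (sm_bijective P.isTorsor.1 y).2 (x P)
    refine ⟨Quot.mk _ P, Quotient.sound' ⟨h, ?_⟩⟩
    have h1 := (hg P).symm
    rw [← show sm P.act h y = x P from hh] at h1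
    exact (tw_smul _ _).trans (congrArg (toTw φ) (twist_eq P.isTorsor.1 hy h1).symm)
  have hfin : Finite (NonAbH1.H1Sch G Scheme.fppfPrecoverage) := Finite.of_injective Ψ hinjΨ
  refine ⟨hfin, ?_⟩
  have haut : ∀ P : T, Nat.card (NonAbH1.EquivIso P.act P.act) =
      Nat.card (MulAction.stabilizer (Pts K G) (toTw φ (g P))) := fun P => by
    have hb := sm_bijective P.isTorsor.1 (x P)
    choose H hH using fun e : NonAbH1.EquivIso P.act P.act => hb.2 (x P ≫ e.iso.hom)
    have hst : ∀ e, H e ∈ MulAction.stabilizer (Pts K G) (toTw φ (g P)) := fun e => by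
      have h1 : fr φ P.X (sm P.act (H e) (x P)) = sm P.act (g P) (sm P.act (H e) (x P)) := by
        rw [show sm P.act (H e) (x P) = x P ≫ e.iso.hom from hH e]
        show SGA7.specAut φ ≫ x P ≫ e.iso.hom = _
        rw [← Category.assoc, show SGA7.specAut φ ≫ x P = sm P.act (g P) (x P) from (hg P).symm, sm, Category.assoc,
          e.comm, lift_whiskerLeft_assoc]
        rfl
      exact MulAction.mem_stabilizer_iff.2
        ((tw_smul _ _).trans (congrArg (toTw φ) (twist_eq P.isTorsor.1 (hg P).symm h1).symm))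
    refine Nat.card_congr (Equiv.ofBijective (fun e => (⟨H e, hst e⟩ : MulAction.stabilizer (Pts K G) (toTw φ (g P))))
      ⟨fun e e' h => ?_, fun ⟨c, hc⟩ => ?_⟩)
    · have h0 : H e = H e' := congrArg Subtype.val h
      have h1 : x P ≫ e.iso.hom = x P ≫ e'.iso.hom := by rw [← hH e, ← hH e', h0]
      have h2 : e.iso.hom = e'.iso.hom := by
        haveI := isAffine_of_split (hP P).1
        refine (hP P).1.hom_ext fun z => ?_
        obtain ⟨w, rfl⟩ := hb.2 z
        show (lift w (x P) ≫ P.act.act) ≫ e.iso.hom = (lift w (x P) ≫ P.act.act) ≫ e'.iso.hom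
        rw [Category.assoc, Category.assoc, e.comm, e'.comm, lift_whiskerLeft_assoc, lift_whiskerLeft_assoc, h1]
      cases e; cases e'
      congr
      exact Iso.ext h2
    · rw [MulAction.mem_stabilizer_iff] at hc
      rw [tw_smul] at hc
      replace hc := (toTw φ).injective hc
      have hy : fr φ P.X (sm P.act c (x P)) = sm P.act (g P) (sm P.act c (x P)) := by
        rw [fr_sm, show fr φ P.X (x P) = sm P.act (g P) (x P) from (hg P).symm, ← sm_mul, ← sm_mul]
        refine congrArg (fun t => sm P.act t (x P)) ?_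
        exact mul_inv_eq_iff_eq_mul.1 hc
      obtain ⟨f, hf, hfx⟩ := exists_equivariant hfix hG (hP P).1 (hP P).1 P.isTorsor.1 (g P) (hg P).symm hy
      have : IsIso f := SchTorsor.isIso_of_equivariant (torsor_mono fppf_le_fpqc P.isTorsor) P.isTorsor.1 f hf
      exact ⟨⟨asIso f, hf⟩, Subtype.ext (hb.1 ((hH ⟨asIso f, hf⟩).trans hfx))⟩
  have := Fintype.ofFinite (NonAbH1.H1Sch G Scheme.fppfPrecoverage)
  have := Fintype.ofFinite (MulAction.orbitRel.Quotient (Pts K G) (Tw G φ))
  have := Fintype.ofFinite (Tw G φ)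
  have hm : (0 : ℚ) < Nat.card (Pts K G) := Nat.cast_pos.2 Nat.card_pos
  have hterm : ∀ ξ : NonAbH1.H1Sch G Scheme.fppfPrecoverage,
      ((Nat.card (NonAbH1.EquivIso (Quot.out ξ).act (Quot.out ξ).act) : ℚ))⁻¹ =
        (Nat.card (Ψ ξ).orbit : ℚ) / Nat.card (Pts K G) := fun ξ => by
    have horb : (Ψ ξ).orbit = MulAction.orbit (Pts K G) (toTw φ (g (Quot.out ξ))) := by
      conv_lhs => rw [← Quot.out_eq ξ]
      exact MulAction.orbitRel.Quotient.orbit_mk _
    have h1 : Nat.card (MulAction.orbit (Pts K G) (toTw φ (g (Quot.out ξ)))) *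
        Nat.card (MulAction.stabilizer (Pts K G) (toTw φ (g (Quot.out ξ)))) = Nat.card (Pts K G) := by
      rw [← Nat.card_prod]
      exact Nat.card_congr (MulAction.orbitProdStabilizerEquivGroup _ _)
    rw [haut, horb, ← h1, Nat.cast_mul]
    rw [div_mul_cancel_left₀]
    exact Nat.cast_ne_zero.2 (Nat.card_ne_zero.2 ⟨⟨⟨_, MulAction.mem_orbit_self _⟩⟩, inferInstance⟩)
  rw [finsum_eq_sum_of_fintype, Fintype.sum_congr _ _ hterm]
  refine (Fintype.sum_equiv (Equiv.ofBijective Ψ ⟨hinjΨ, hsurj⟩) _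
    (fun o => (Nat.card o.orbit : ℚ) / Nat.card (Pts K G)) fun ξ => rfl).trans ?_
  rw [← Finset.sum_div , ← Nat.cast_sum, ← Nat.card_sigma,
    ← Nat.card_congr (MulAction.selfEquivSigmaOrbits' (Pts K G) (Tw G φ))]
  exact div_self hm.ne'

end Groth.Agent.NonAbLib.FinGal
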